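/-
A finite category receiving the generators of a finitely generated category with finitely many objects.
-/
import Mathlib.CategoryTheory.FinCategory.Basic
import Mathlib.CategoryTheory.Limits.Final
import Mathlib.CategoryTheory.MorphismProperty.Composition
import Mathlib.CategoryTheory.IsConnected
import Mathlib.Data.Fintype.EquivFin
import Mathlib.Data.Fintype.Sum
import Mathlib.Data.Fintype.Prod
import Mathlib.Data.Finite.Sum
import Mathlib.Data.Finite.Prod

set_option autoImplicit false

open CategoryTheory CategoryTheory.Limits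

namespace Groth.Agent.Lib.CatLim.Bipartite

universe v u

/-- Objects. -/
def Obj (n : ℕ) {m : ℕ} (_s _t : Fin m → Fin n) : Type := Bool × Fin n

variable {n m : ℕ} {s t : Fin m → Fin n}

/-- Arrows. -/
inductive Hom : Obj n s t → Obj n s t → Type
  | id (x : Obj n s t) : Hom x x
  | diag (a : Fin n) : Hom (false, a) (true, a)
  | edge (k : Fin m) : Hom (false, s k) (true, t k)

/-- Composition. -/
def Hom.comp : {x y z : Obj n s t} → Hom x y → Hom y z → Hom x z
  | _, _, _, .id _, g => g
  | _, _, _, .diag a, .id _ => .diag a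
  | _, _, _, .edge k, .id _ => .edge k

instance category : SmallCategory (Obj n s t) where
  Hom := Hom
  id := Hom.id
  comp := Hom.comp
  id_comp f := rfl
  comp_id f := by cases f <;> rfl
  assoc f g h := by cases f <;> cases g <;> cases h <;> rfl

/-- All arrows. -/
def decode : (Bool × Fin n) ⊕ (Fin n ⊕ Fin m) → Σ x y : Obj n s t, Hom x y
  | .inl x => ⟨x, x, .id x⟩
  | .inr (.inl a) => ⟨_, _, .diag a⟩
  | .inr (.inr k) => ⟨_, _, .edge k⟩

lemma finite_hom (x y : Obj n s t) : Finite (x ⟶ y) := by
  have : Finite (Σ x y : Obj n s t, Hom x y) := Finite.of_surjective decode (by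
    rintro ⟨x, y, f⟩
    cases f with
    | id => exact ⟨.inl x, rfl⟩
    | diag a => exact ⟨.inr (.inl a), rfl⟩
    | edge k => exact ⟨.inr (.inr k), rfl⟩)
  exact Finite.of_injective (fun f : Hom x y => (⟨x, y, f⟩ : Σ x y : Obj n s t, Hom x y))
    (fun f g h => by simpa using h)

noncomputable instance finCategory : FinCategory (Obj n s t) where
  fintypeObj := inferInstanceAs (Fintype (Bool × Fin n))
  fintypeHom x y := @Fintype.ofFinite _ (finite_hom x y)

variable {I : Type u} [Category.{v} I] (e : Fin n ≃ I) (φ : ∀ k, e (s k) ⟶ e (t k))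

/-- The action on arrows. -/
def mapHom : {x y : Obj n s t} → Hom x y → (e x.2 ⟶ e y.2)
  | _, _, .id x => 𝟙 (e x.2)
  | _, _, .diag a => 𝟙 (e a)
  | _, _, .edge k => φ k

lemma mapHom_comp {x y z : Obj n s t} (f : Hom x y) (g : Hom y z) :
    mapHom e φ (f.comp g) = mapHom e φ f ≫ mapHom e φ g := by
    cases f <;> cases g <;> first
      | exact (Category.id_comp _).symm
      | exact (Category.comp_id _).symm

/-- The functor to `I`. -/
def F : Obj n s t ⥤ I where
  obj x := e x.2
  map f := mapHom e φ f
  map_id x := rfl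
  map_comp f g := mapHom_comp e φ f g

variable (hgen : ∀ P : MorphismProperty I, P.IsMultiplicative → (∀ k, P (φ k)) → P = ⊤)

/-- The vertex `(a, false)`. -/
abbrev vl (s t : Fin m → Fin n) (a : Fin n) : Obj n s t := (false, a)

/-- The vertex `(a, true)`. -/
abbrev vr (s t : Fin m → Fin n) (a : Fin n) : Obj n s t := (true, a)

include hgen

lemma zigzag_ends (R : I → I → Prop) (hr : ∀ x, R x x) (htr : ∀ {x y z}, R x y → R y z → R x z)
    (hk : ∀ k, R (e (s k)) (e (t k))) {x y : I} (f : x ⟶ y) : R x y := by
  let P : MorphismProperty I := fun x y _ => R x y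
  have h : P = ⊤ := hgen P { id_mem := hr, comp_mem := fun _ _ h h' => htr h h' } hk
  have hf : P f := by rw [h]; trivial
  exact hf

lemma final : (F e φ).Final := by
  constructor
  intro d
  let at' : ∀ (a : Fin n) (g : d ⟶ e a), StructuredArrow d (F e φ) := fun a g =>
    StructuredArrow.mk (Y := vl s t a) g
  have hlr : ∀ (a : Fin n) (g : d ⟶ e a),
      Zigzag (at' a g) (StructuredArrow.mk (Y := vr s t a) (g : d ⟶ (F e φ).obj (vr s t a))) := fun a g =>
    Zigzag.of_hom (StructuredArrow.homMk (Hom.diag a) (Category.comp_id g))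
  let P : MorphismProperty I := fun x y f => ∀ (a b : Fin n) (ha : e a = x) (hb : e b = y) (g : d ⟶ e a),
    Zigzag (at' a g) (at' b (g ≫ eqToHom ha ≫ f ≫ eqToHom hb.symm))
  have hP : P = ⊤ := hgen P
    { id_mem := fun x a b ha hb g => by
        obtain rfl := e.injective (ha.trans hb.symm)
        simp only [Category.id_comp, eqToHom_trans, eqToHom_refl, Category.comp_id]
        exact Zigzag.refl _
      comp_mem := fun {x y z} f f' hf hf' a c ha hc g => by
        obtain ⟨b, hb⟩ := e.surjective y
        have h1 := hf a b ha hb g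
        have h2 := hf' b c hb hc (g ≫ eqToHom ha ≫ f ≫ eqToHom hb.symm)
        simp only [Category.assoc, eqToHom_trans_assoc, eqToHom_refl, Category.id_comp] at h2
        refine h1.trans ?_
        simpa only [Category.assoc] using h2 }
    (fun k a b ha hb g => by
      obtain rfl := e.injective ha
      obtain rfl := e.injective hb
      simp only [eqToHom_refl, Category.id_comp, Category.comp_id]
      refine Zigzag.trans ?_ (hlr (t k) (g ≫ φ k)).symm
      exact Zigzag.of_hom (StructuredArrow.homMk (Hom.edge k) rfl))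
  obtain ⟨a₀, ha₀⟩ := e.surjective d
  have key' : ∀ (b : Fin n) (g : d ⟶ e b), Zigzag (at' a₀ (eqToHom ha₀.symm)) (at' b g) := fun b g => by
    have hg : P g := hP.symm ▸ trivial
    simpa using hg a₀ b ha₀ rfl (eqToHom ha₀.symm)
  have key : ∀ j : StructuredArrow d (F e φ), Zigzag (at' a₀ (eqToHom ha₀.symm)) j := by
    rintro ⟨⟨⟨⟩⟩, ⟨s', b⟩, g⟩
    have h1 := key' b g
    cases s' with
    | false => exact h1
    | true => exact h1.trans (hlr b g)
  have : Nonempty (StructuredArrow d (F e φ)) := ⟨at' a₀ (eqToHom ha₀.symm)⟩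
  exact zigzag_isConnected fun j₁ j₂ => (key j₁).symm.trans (key j₂)

lemma initial : (F e φ).Initial := by
  constructor
  intro d
  let at' : ∀ (a : Fin n) (g : e a ⟶ d), CostructuredArrow (F e φ) d := fun a g =>
    CostructuredArrow.mk (Y := vr s t a) g
  have hlr : ∀ (a : Fin n) (g : e a ⟶ d),
      Zigzag (CostructuredArrow.mk (Y := vl s t a) (g : (F e φ).obj (vl s t a) ⟶ d)) (at' a g) := fun a g =>
    Zigzag.of_hom (CostructuredArrow.homMk (Hom.diag a) (Category.id_comp g))
  let P : MorphismProperty I := fun x y f => ∀ (a b : Fin n) (ha : e a = x) (hb : e b = y) (g : e b ⟶ d),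
    Zigzag (at' a (eqToHom ha ≫ f ≫ eqToHom hb.symm ≫ g)) (at' b g)
  have hP : P = ⊤ := hgen P
    { id_mem := fun x a b ha hb g => by
        obtain rfl := e.injective (ha.trans hb.symm)
        simp only [Category.id_comp, eqToHom_trans_assoc, eqToHom_refl]
        exact Zigzag.refl _
      comp_mem := fun {x y z} f f' hf hf' a c ha hc g => by
        obtain ⟨b, hb⟩ := e.surjective y
        have h2 := hf' b c hb hc g
        have h1 := hf a b ha hb (eqToHom hb ≫ f' ≫ eqToHom hc.symm ≫ g)
        simp only [Category.assoc, eqToHom_trans_assoc, eqToHom_refl, Category.id_comp] at h1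
        refine Zigzag.trans ?_ h2
        simpa only [Category.assoc] using h1 }
    (fun k a b ha hb g => by
      obtain rfl := e.injective ha
      obtain rfl := e.injective hb
      simp only [eqToHom_refl, Category.id_comp]
      refine (hlr (s k) (φ k ≫ g)).symm.trans ?_
      exact Zigzag.of_hom (CostructuredArrow.homMk (Hom.edge k) rfl))
  obtain ⟨a₀, ha₀⟩ := e.surjective d
  have key' : ∀ (b : Fin n) (g : e b ⟶ d), Zigzag (at' b g) (at' a₀ (eqToHom ha₀)) := fun b g => by
    have hg : P g := hP.symm ▸ trivial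
    simpa using hg b a₀ rfl ha₀ (eqToHom ha₀)
  have key : ∀ j : CostructuredArrow (F e φ) d, Zigzag j (at' a₀ (eqToHom ha₀)) := by
    rintro ⟨⟨s', b⟩, ⟨⟨⟩⟩, g⟩
    have h1 := key' b g
    cases s' with
    | true => exact h1
    | false => exact (hlr b g).trans h1
  have : Nonempty (CostructuredArrow (F e φ) d) := ⟨at' a₀ (eqToHom ha₀)⟩
  exact zigzag_isConnected fun j₁ j₂ => (key j₁).trans (key j₂).symm

omit hgen in
lemma nonempty_iff {s t : Fin m → Fin n} (e : Fin n ≃ I) : Nonempty (Obj n s t) ↔ Nonempty I :=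
  ⟨fun ⟨x⟩ => ⟨e x.2⟩, fun ⟨i⟩ => ⟨(false, e.symm i)⟩⟩

lemma connected_iff : IsConnected (Obj n s t) ↔ IsConnected I := by
  constructor
  · intro hJ
    have : Nonempty I := (nonempty_iff (s := s) (t := t) e).1 hJ.is_nonempty
    refine zigzag_isConnected fun x y => ?_
    obtain ⟨a, rfl⟩ := e.surjective x
    obtain ⟨b, rfl⟩ := e.surjective y
    exact zigzag_obj_of_zigzag (F e φ) (isPreconnected_zigzag (vl s t a) (vl s t b))
  · intro hI
    have : Nonempty (Obj n s t) := (nonempty_iff e).2 hI.is_nonempty
    have hd : ∀ a, Zigzag (vl s t a) (vr s t a) := fun a => Zigzag.of_hom (Hom.diag a)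
    have h0 : ∀ x y : I, Zigzag (vl s t (e.symm x)) (vl s t (e.symm y)) := by
      intro x y
      refine induct_on_objects (p := {z | Zigzag (vl s t (e.symm x)) (vl s t (e.symm z))}) (Zigzag.refl _)
        (fun {z w} f => ?_) y
      have hz : Zigzag (vl s t (e.symm z)) (vl s t (e.symm w)) :=
        zigzag_ends e φ hgen (fun p q => Zigzag (vl s t (e.symm p)) (vl s t (e.symm q)))
          (fun _ => Zigzag.refl _) (fun h h' => h.trans h') (fun k => by
            simp only [Equiv.symm_apply_apply]
            exact (Zigzag.of_hom (Hom.edge k : vl s t (s k) ⟶ vr s t (t k))).trans (hd _).symm) f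
      exact ⟨fun h => h.trans hz, fun h => h.trans hz.symm⟩
    refine zigzag_isConnected fun p q => ?_
    have hl : ∀ p : Obj n s t, Zigzag (vl s t p.2) p := by
      rintro ⟨_ | _, a⟩
      · exact Zigzag.refl _
      · exact hd a
    have := h0 (e p.2) (e q.2)
    simp only [Equiv.symm_apply_apply] at this
    exact ((hl p).symm.trans this).trans (hl q)

end Groth.Agent.Lib.CatLim.Bipartite
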