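/-
Finite connected limits from pullbacks and equalizers.
-/
import Mathlib.CategoryTheory.IsConnected
import Mathlib.CategoryTheory.FinCategory.Basic
import Mathlib.CategoryTheory.Limits.HasLimits
import Mathlib.CategoryTheory.Limits.Shapes.Equalizers
import Mathlib.CategoryTheory.Limits.Shapes.BinaryProducts
import Mathlib.CategoryTheory.Limits.Shapes.Pullback.HasPullback
import Mathlib.Data.Finset.Basic
import Mathlib.Data.Fintype.Powerset
import Mathlib.Data.Finset.Max
import Mathlib.Data.Fintype.Sigma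
import Mathlib.Data.Finite.Sigma
import Mathlib.Data.Fintype.EquivFin
import Mathlib.Data.Set.Finite.Basic

set_option autoImplicit false

open CategoryTheory CategoryTheory.Limits

namespace Groth.Agent.Lib.CatLim.Build

universe v u

variable {C : Type u} [Category.{v} C] {J : Type} [SmallCategory J] (D : J ⥤ C)

/-- An arrow of `J`. -/
abbrev Arr (J : Type) [SmallCategory J] : Type := Σ i j : J, i ⟶ j

/-- Legs commute with the arrows in `R`. -/
def Ok (S : Finset J) (R : Set (Arr J)) {T : C} (x : ∀ j ∈ S, T ⟶ D.obj j) : Prop :=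
  ∀ a ∈ R, ∀ (hi : a.1 ∈ S) (hj : a.2.1 ∈ S), x a.1 hi ≫ D.map a.2.2 = x a.2.1 hj

/-- A limit of the partial diagram exists. -/
def Has (S : Finset J) (R : Set (Arr J)) : Prop :=
  (∀ a ∈ R, a.1 ∈ S ∧ a.2.1 ∈ S) ∧
  ∃ (X : C) (π : ∀ j ∈ S, X ⟶ D.obj j), Ok D S R π ∧
    ∀ (T : C) (x : ∀ j ∈ S, T ⟶ D.obj j), Ok D S R x → ∃! t : T ⟶ X, ∀ j h, t ≫ π j h = x j h

variable {D} [DecidableEq J] {S : Finset J} {R : Set (Arr J)}

lemma has_singleton (j₀ : J) : Has D {j₀} ∅ := by
  refine ⟨fun a ha => ha.elim, D.obj j₀, fun j h => eqToHom (by rw [Finset.mem_singleton.1 h]),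
    fun a ha => ha.elim, fun T x _ => ⟨x j₀ (Finset.mem_singleton_self j₀), fun j h => ?_, fun t ht => ?_⟩⟩
  · obtain rfl := Finset.mem_singleton.1 h
    simp
  · simpa using ht j₀ (Finset.mem_singleton_self j₀)

lemma has_equalizer [HasEqualizers C] (hS : Has D S R) (a : Arr J) (hi : a.1 ∈ S) (hj : a.2.1 ∈ S) :
    Has D S (insert a R) := by
  obtain ⟨hR, X, π, hπ, hu⟩ := hS
  refine ⟨fun b hb => ?_, equalizer (π a.1 hi ≫ D.map a.2.2) (π a.2.1 hj),
    fun j h => equalizer.ι _ _ ≫ π j h, ?_, fun T x hx => ?_⟩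
  · rcases hb with rfl | hb
    · exact ⟨hi, hj⟩
    · exact hR b hb
  · intro b hb hbi hbj
    rcases hb with rfl | hb
    · rw [Category.assoc]; exact equalizer.condition _ _
    · rw [Category.assoc, hπ b hb hbi hbj]
  · obtain ⟨t, ht, huniq⟩ := hu T x fun b hb => hx b (Set.mem_insert_of_mem a hb)
    refine ⟨equalizer.lift t ?_, fun j h => ?_, fun t' ht' => ?_⟩
    · rw [← Category.assoc, ht, ht]
      exact hx a (Set.mem_insert a R) hi hj
    · rw [equalizer.lift_ι_assoc, ht]
    · apply equalizer.hom_ext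
      rw [equalizer.lift_ι]
      exact huniq _ fun j h => by rw [Category.assoc, ht']

lemma has_out (hS : Has D S R) {i j : J} (f : i ⟶ j) (hi : i ∈ S) (hj : j ∉ S) :
    Has D (insert j S) (insert ⟨i, j, f⟩ R) := by
  obtain ⟨hR, X, π, hπ, hu⟩ := hS
  have hne : ∀ {k : J}, k ∈ S → k ≠ j := fun {k} hk e => hj (e ▸ hk)
  refine ⟨fun b hb => ?_, X,
    fun k h => if hk : k = j then π i hi ≫ D.map f ≫ eqToHom (by rw [hk]) else
      π k ((Finset.mem_insert.1 h).resolve_left hk), ?_, fun T x hx => ?_⟩
  · rcases hb with rfl | hb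
    · exact ⟨Finset.mem_insert_of_mem hi, Finset.mem_insert_self j S⟩
    · exact ⟨Finset.mem_insert_of_mem (hR b hb).1, Finset.mem_insert_of_mem (hR b hb).2⟩
  · intro b hb hbi hbj
    rcases hb with rfl | hb
    · simp [hne hi]
    · simp only [dif_neg (hne (hR b hb).1), dif_neg (hne (hR b hb).2)]
      exact hπ b hb _ _
  · obtain ⟨t, ht, huniq⟩ := hu T (fun k hk => x k (Finset.mem_insert_of_mem hk))
      fun b hb hbi hbj => hx b (Set.mem_insert_of_mem _ hb) _ _
    refine ⟨t, fun k h => ?_, fun t' ht' => huniq t' fun k hk => ?_⟩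
    · dsimp only
      by_cases hk : k = j
      · subst hk
        rw [dif_pos rfl, eqToHom_refl, Category.comp_id, reassoc_of% ht i hi]
        exact hx ⟨i, k, f⟩ (Set.mem_insert _ _) _ h
      · rw [dif_neg hk, ht]
    · have := ht' k (Finset.mem_insert_of_mem hk)
      simpa only [dif_neg (hne hk)] using this

lemma has_in [HasPullbacks C] (hS : Has D S R) {i j : J} (f : i ⟶ j) (hj : j ∈ S) (hi : i ∉ S) :
    Has D (insert i S) (insert ⟨i, j, f⟩ R) := by
  obtain ⟨hR, X, π, hπ, hu⟩ := hS
  have hne : ∀ {k : J}, k ∈ S → k ≠ i := fun {k} hk e => hi (e ▸ hk)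
  refine ⟨fun b hb => ?_, pullback (π j hj) (D.map f),
    fun k h => if hk : k = i then pullback.snd _ _ ≫ eqToHom (by rw [hk]) else
      pullback.fst _ _ ≫ π k ((Finset.mem_insert.1 h).resolve_left hk), ?_, fun T x hx => ?_⟩
  · rcases hb with rfl | hb
    · exact ⟨Finset.mem_insert_self i S, Finset.mem_insert_of_mem hj⟩
    · exact ⟨Finset.mem_insert_of_mem (hR b hb).1, Finset.mem_insert_of_mem (hR b hb).2⟩
  · intro b hb hbi hbj
    rcases hb with rfl | hb
    · simp [hne hj, pullback.condition]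
    · simp only [dif_neg (hne (hR b hb).1), dif_neg (hne (hR b hb).2), Category.assoc]
      rw [hπ b hb]
  · obtain ⟨t, ht, huniq⟩ := hu T (fun k hk => x k (Finset.mem_insert_of_mem hk))
      fun b hb hbi hbj => hx b (Set.mem_insert_of_mem _ hb) _ _
    refine ⟨pullback.lift t (x i (Finset.mem_insert_self i S)) ?_, fun k h => ?_, fun t' ht' => ?_⟩
    · rw [ht]
      exact (hx ⟨i, j, f⟩ (Set.mem_insert _ _) _ _).symm
    · dsimp only
      by_cases hk : k = i
      · subst hk
        rw [dif_pos rfl, eqToHom_refl, Category.comp_id, pullback.lift_snd]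
      · rw [dif_neg hk, pullback.lift_fst_assoc, ht]
    · apply pullback.hom_ext
      · rw [pullback.lift_fst]
        refine huniq _ fun k hk => ?_
        have := ht' k (Finset.mem_insert_of_mem hk)
        simpa only [dif_neg (hne hk), ← Category.assoc] using this
      · rw [pullback.lift_snd]
        simpa using ht' i (Finset.mem_insert_self i S)

lemma has_prod [HasBinaryProducts C] (hS : Has D S R) {i : J} (hi : i ∉ S) : Has D (insert i S) R := by
  obtain ⟨hR, X, π, hπ, hu⟩ := hS
  have hne : ∀ {k : J}, k ∈ S → k ≠ i := fun {k} hk e => hi (e ▸ hk)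
  refine ⟨fun b hb => ⟨Finset.mem_insert_of_mem (hR b hb).1, Finset.mem_insert_of_mem (hR b hb).2⟩,
    X ⨯ D.obj i,
    fun k h => if hk : k = i then Limits.prod.snd ≫ eqToHom (by rw [hk]) else
      Limits.prod.fst ≫ π k ((Finset.mem_insert.1 h).resolve_left hk), ?_, fun T x hx => ?_⟩
  · intro b hb hbi hbj
    simp only [dif_neg (hne (hR b hb).1), dif_neg (hne (hR b hb).2), Category.assoc]
    rw [hπ b hb]
  · obtain ⟨t, ht, huniq⟩ := hu T (fun k hk => x k (Finset.mem_insert_of_mem hk))
      fun b hb hbi hbj => hx b hb _ _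
    refine ⟨prod.lift t (x i (Finset.mem_insert_self i S)), fun k h => ?_, fun t' ht' => ?_⟩
    · dsimp only
      by_cases hk : k = i
      · subst hk; rw [dif_pos rfl, eqToHom_refl, Category.comp_id, prod.lift_snd]
      · rw [dif_neg hk, prod.lift_fst_assoc, ht]
    · apply Limits.prod.hom_ext
      · rw [prod.lift_fst]
        refine huniq _ fun k hk => ?_
        have := ht' k (Finset.mem_insert_of_mem hk)
        simpa only [dif_neg (hne hk), ← Category.assoc] using this
      · rw [prod.lift_snd]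
        simpa using ht' i (Finset.mem_insert_self i S)

theorem hasLimit [HasEqualizers C] [Fintype J] [∀ i j : J, Finite (i ⟶ j)]
    (h : Has D (Finset.univ : Finset J) R) : HasLimit D := by
  have key : ∀ A : Set (Arr J), A.Finite → Has D Finset.univ (A ∪ R) := fun A hA => by
    induction A, hA using Set.Finite.induction_on with
    | empty => rwa [Set.empty_union]
    | insert _ _ ih =>
      rw [Set.insert_union]
      exact has_equalizer ih _ (Finset.mem_univ _) (Finset.mem_univ _)
  obtain ⟨-, X, π, hπ, hu⟩ := key Set.univ (Set.toFinite _)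
  let c : Cone D :=
    { pt := X
      π :=
        { app := fun j => π j (Finset.mem_univ j)
          naturality := fun i j f => by
            refine (Category.id_comp _).trans ?_
            exact (hπ ⟨i, j, f⟩ (Or.inl trivial) _ _).symm } }
  have hx : ∀ s : Cone D, Ok D Finset.univ (Set.univ ∪ R) (fun j _ => s.π.app j) := fun s a _ _ _ => s.w a.2.2
  exact ⟨⟨⟨c,
    { lift := fun s => (hu s.pt (fun j _ => s.π.app j) (hx s)).choose
      fac := fun s j => (hu s.pt (fun j _ => s.π.app j) (hx s)).choose_spec.1 j (Finset.mem_univ j)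
      uniq := fun s m hm => (hu s.pt (fun j _ => s.π.app j) (hx s)).choose_spec.2 m fun j _ => hm j }⟩⟩⟩

theorem exists_univ_of_connected [HasPullbacks C] [Fintype J] [IsConnected J] :
    ∃ R, Has D (Finset.univ : Finset J) R := by
  classical
  obtain ⟨S, ⟨⟨R, hS⟩, hne⟩, hmax⟩ : ∃ S : Finset J, ((∃ R, Has D S R) ∧ S.Nonempty) ∧
      ∀ S' : Finset J, ((∃ R, Has D S' R) ∧ S'.Nonempty) → S'.card ≤ S.card := by
    obtain ⟨S, hS, hmax⟩ := (Finset.univ.filter fun S : Finset J => (∃ R, Has D S R) ∧ S.Nonempty).exists_max_image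
      Finset.card ⟨{Classical.arbitrary J}, by
        simp only [Finset.mem_filter, Finset.mem_univ, true_and]
        exact ⟨⟨∅, has_singleton _⟩, Finset.singleton_nonempty _⟩⟩
    simp only [Finset.mem_filter, Finset.mem_univ, true_and] at hS hmax
    exact ⟨S, hS, hmax⟩
  obtain ⟨j₀, hj₀⟩ := hne
  refine ⟨R, ?_⟩
  suffices S = Finset.univ by rwa [← this]
  refine Finset.eq_univ_of_forall fun j => induct_on_objects (p := {k | k ∈ S}) hj₀ (fun {a b} f => ?_) j
  refine ⟨fun ha => ?_, fun hb => ?_⟩
  · by_contra hb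
    have := hmax (insert b S) ⟨⟨_, has_out hS f ha hb⟩, Finset.insert_nonempty _ _⟩
    rw [Finset.card_insert_of_notMem hb] at this
    omega
  · by_contra ha
    have := hmax (insert a S) ⟨⟨_, has_in hS f hb ha⟩, Finset.insert_nonempty _ _⟩
    rw [Finset.card_insert_of_notMem ha] at this
    omega

theorem exists_univ_of_products [HasBinaryProducts C] [Fintype J] [Nonempty J] :
    ∃ R, Has D (Finset.univ : Finset J) R := by
  have key : ∀ S : Finset J, S.Nonempty → Has D S ∅ := fun S hS => by
    induction hS using Finset.Nonempty.cons_induction with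
    | singleton a => exact has_singleton a
    | cons a s ha _ ih => rw [Finset.cons_eq_insert]; exact has_prod ih ha
  exact ⟨∅, key _ Finset.univ_nonempty⟩

end Groth.Agent.Lib.CatLim.Build
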