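/-
Colimits over almost filtered categories commute with finite connected limits.
-/
import Mathlib.CategoryTheory.Limits.Types.Limits
import Mathlib.CategoryTheory.Limits.Types.Colimits
import Mathlib.CategoryTheory.Limits.FunctorCategory.Basic
import Mathlib.CategoryTheory.Limits.HasLimits
import Mathlib.CategoryTheory.IsConnected
import Mathlib.CategoryTheory.FinCategory.Basic
import Mathlib.Data.Finite.Sigma
import Mathlib.Data.Set.Finite.Basic

set_option autoImplicit false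

open CategoryTheory CategoryTheory.Limits

namespace Groth.Agent.Lib.CatLim.Commute

universe v

variable {I : Type v} [SmallCategory I]
variable (h1 : ∀ ⦃w x y : I⦄ (a : w ⟶ x) (b : w ⟶ y), ∃ (z : I) (c : x ⟶ z) (d : y ⟶ z), a ≫ c = b ≫ d)
variable (h2 : ∀ ⦃x y : I⦄ (a b : x ⟶ y), ∃ (z : I) (c : y ⟶ z), a ≫ c = b ≫ c)

lemma map_congr (F : I ⥤ Type v) {x y : I} {a b : x ⟶ y} (h : a = b) (t : F.obj x) :
    F.map a t = F.map b t := by rw [h]

include h1 in
lemma eq_cospan (F : I ⥤ Type v) {i i' : I} {x : F.obj i} {x' : F.obj i'}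
    (h : colimit.ι F i x = colimit.ι F i' x') : ∃ (k : I) (a : i ⟶ k) (b : i' ⟶ k), F.map a x = F.map b x' := by
  have key : ∀ p q : Σ i, F.obj i, Relation.EqvGen F.ColimitTypeRel p q →
      ∃ (k : I) (a : p.1 ⟶ k) (b : q.1 ⟶ k), F.map a p.2 = F.map b q.2 := by
    intro p q hpq
    induction hpq with
    | rel p q hr =>
      obtain ⟨f, hf⟩ := hr
      exact ⟨q.1, f, 𝟙 _, by simp [hf]⟩
    | refl p => exact ⟨p.1, 𝟙 _, 𝟙 _, rfl⟩
    | symm p q _ ih =>
      obtain ⟨k, a, b, hab⟩ := ih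
      exact ⟨k, b, a, hab.symm⟩
    | trans p q r _ _ ih ih' =>
      obtain ⟨k, a, b, hab⟩ := ih
      obtain ⟨k', a', b', hab'⟩ := ih'
      obtain ⟨z, c, d, hcd⟩ := h1 b a'
      refine ⟨z, a ≫ c, b' ≫ d, ?_⟩
      have := map_congr F hcd q.2
      simp only [Functor.map_comp_apply] at this ⊢
      rw [hab, this, hab']
  exact key ⟨i, x⟩ ⟨i', x'⟩ (Types.colimit_eq h)

variable {J : Type} [SmallCategory J] [FinCategory J] [IsConnected J] (D : J ⥤ (I ⥤ Type v))

include h1 h2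

lemma common_cospan {i i' : I} (x : ∀ j, (D.obj j).obj i) (y : ∀ j, (D.obj j).obj i')
    (h : ∀ j, colimit.ι (D.obj j) i (x j) = colimit.ι (D.obj j) i' (y j)) :
    ∃ (k : I) (a : i ⟶ k) (b : i' ⟶ k), ∀ j, (D.obj j).map a (x j) = (D.obj j).map b (y j) := by
  classical
  have key : ∀ S : Finset J, ∃ (k : I) (a : i ⟶ k) (b : i' ⟶ k),
      ∀ j ∈ S, (D.obj j).map a (x j) = (D.obj j).map b (y j) := by
    intro S
    induction S using Finset.induction with
    | empty =>
      obtain ⟨k, a, b, -⟩ := eq_cospan h1 _ (h (Classical.arbitrary J))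
      exact ⟨k, a, b, fun j hj => absurd hj (Finset.notMem_empty j)⟩
    | @insert j₁ S _ ih =>
      obtain ⟨k, a, b, hab⟩ := ih
      obtain ⟨k₁, a₁, b₁, hab₁⟩ := eq_cospan h1 _ (h j₁)
      obtain ⟨z, c, d, hcd⟩ := h1 a a₁
      obtain ⟨z', e, he⟩ := h2 (b ≫ c) (b₁ ≫ d)
      refine ⟨z', a ≫ c ≫ e, b ≫ c ≫ e, fun j hj => ?_⟩
      rcases Finset.mem_insert.1 hj with rfl | hj
      · have e1 := map_congr (D.obj j) (congrArg (· ≫ e) hcd) (x j)
        have e2 := map_congr (D.obj j) he (y j)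
        simp only [Functor.map_comp_apply] at e1 e2 ⊢
        rw [e1, hab₁, e2]
      · simp only [Functor.map_comp_apply, hab j hj]
  obtain ⟨k, a, b, hab⟩ := key Finset.univ
  exact ⟨k, a, b, fun j => hab j (Finset.mem_univ j)⟩

lemma exists_common_level (s : ∀ j, colimit (D.obj j))
    (hs : ∀ {j j'} (f : j ⟶ j'), colimMap (D.map f) (s j) = s j') :
    ∃ (k : I) (x : ∀ j, (D.obj j).obj k), (∀ j, colimit.ι (D.obj j) k (x j) = s j) ∧
      ∀ {j j'} (f : j ⟶ j'), (D.map f).app k (x j) = x j' := by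
  classical
  choose i x hx using fun j => Types.jointly_surjective_of_isColimit (colimit.isColimit (D.obj j)) (s j)
  have hx' : ∀ j, colimit.ι (D.obj j) (i j) (x j) = s j := hx
  let Rl : I → I → Prop := fun p q => ∃ (k : I) (_ : p ⟶ k) (_ : q ⟶ k), True
  have htr : ∀ {p q r}, Rl p q → Rl q r → Rl p r := by
    rintro p q r ⟨k, a, b, -⟩ ⟨k', a', b', -⟩
    obtain ⟨z, c, d, -⟩ := h1 b a'
    exact ⟨z, a ≫ c, b' ≫ d, trivial⟩
  have hmap : ∀ {j j'} (f : j ⟶ j'),
      colimit.ι (D.obj j') (i j) ((D.map f).app (i j) (x j)) = colimit.ι (D.obj j') (i j') (x j') := by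
    intro j j' f
    rw [hx', ← hs f, ← hx']
    exact (ConcreteCategory.congr_hom (ι_colimMap (D.map f) (i j)) (x j)).symm
  have hRl : ∀ {j j'} (_ : j ⟶ j'), Rl (i j) (i j') := fun {j j'} f => by
    obtain ⟨k, a, b, -⟩ := eq_cospan h1 _ (hmap f)
    exact ⟨k, a, b, trivial⟩
  let j₀ : J := Classical.arbitrary J
  have hall : ∀ j, Rl (i j₀) (i j) := fun j => by
    refine induct_on_objects (p := {q | Rl (i j₀) (i q)}) ⟨_, 𝟙 _, 𝟙 _, trivial⟩ (fun {p q} f => ?_) j
    refine ⟨fun h => htr h (hRl f), fun h => ?_⟩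
    obtain ⟨k, a, b, -⟩ := hRl f
    exact htr h ⟨k, b, a, trivial⟩
  have hm : ∀ S : Finset J, ∃ m, Nonempty (i j₀ ⟶ m) ∧ ∀ j ∈ S, Nonempty (i j ⟶ m) := by
    intro S
    induction S using Finset.induction with
    | empty => exact ⟨i j₀, ⟨𝟙 _⟩, fun j hj => absurd hj (Finset.notMem_empty j)⟩
    | @insert j₁ S _ ih =>
      obtain ⟨m, ⟨a⟩, hm⟩ := ih
      obtain ⟨k, a', b, -⟩ := hall j₁
      obtain ⟨z, c, d, -⟩ := h1 a a'
      refine ⟨z, ⟨a ≫ c⟩, fun j hj => ?_⟩
      rcases Finset.mem_insert.1 hj with rfl | hj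
      · exact ⟨b ≫ d⟩
      · exact ⟨(hm j hj).some ≫ c⟩
  obtain ⟨m, -, hm⟩ := hm Finset.univ
  let y : ∀ j, (D.obj j).obj m := fun j => (D.obj j).map (hm j (Finset.mem_univ j)).some (x j)
  have hy : ∀ j, colimit.ι (D.obj j) m (y j) = s j := fun j => by
    rw [← hx' j]
    exact (Types.colimit_sound _ rfl).symm
  have key : ∀ A : Set (Σ j j' : J, j ⟶ j'), A.Finite → ∃ (k : I) (p : m ⟶ k), ∀ a ∈ A,
      (D.map a.2.2).app k ((D.obj a.1).map p (y a.1)) = (D.obj a.2.1).map p (y a.2.1) := by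
    intro A hA
    induction A, hA using Set.Finite.induction_on with
    | empty => exact ⟨m, 𝟙 m, fun a ha => ha.elim⟩
    | @insert a A _ _ ih =>
      obtain ⟨k, p, hp⟩ := ih
      have heq : colimit.ι (D.obj a.2.1) m ((D.map a.2.2).app m (y a.1)) =
          colimit.ι (D.obj a.2.1) m (y a.2.1) := by
        rw [hy, ← hs a.2.2, ← hy]
        exact (ConcreteCategory.congr_hom (ι_colimMap (D.map a.2.2) m) (y a.1)).symm
      obtain ⟨k₁, u, w, huw⟩ := eq_cospan h1 _ heq
      obtain ⟨z₁, e, he⟩ := h2 u w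
      obtain ⟨z, c, d, hcd⟩ := h1 p (u ≫ e)
      refine ⟨z, p ≫ c, fun b hb => ?_⟩
      rcases hb with rfl | hb
      · rw [NatTrans.naturality_apply, hcd]
        have e1 := map_congr (D.obj b.2.1) he (y b.2.1)
        simp only [Functor.map_comp_apply] at e1 ⊢
        rw [huw, e1]
      · simp only [Functor.map_comp_apply, ← hp b hb, NatTrans.naturality_apply]
  obtain ⟨k, p, hp⟩ := key Set.univ (Set.toFinite _)
  exact ⟨k, fun j => (D.obj j).map p (y j),
    fun j => (Types.colimit_sound p rfl).symm.trans (hy j), fun {j j'} f => hp ⟨j, j', f⟩ trivial⟩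

theorem preservesLimit : PreservesLimit D (colim : (I ⥤ Type v) ⥤ Type v) := by
  refine preservesLimit_of_preserves_limit_cone (limit.isLimit D) ?_
  refine Nonempty.some ((Types.isLimit_iff _).2 fun s hs => ?_)
  have hev : ∀ k : I, ∀ t ∈ (D ⋙ (evaluation I (Type v)).obj k).sections,
      ∃! z : (limit D).obj k, ∀ j, (limit.π D j).app k z = t j := fun k =>
    (Types.isLimit_iff _).1 ⟨isLimitOfPreserves ((evaluation I (Type v)).obj k) (limit.isLimit D)⟩
  obtain ⟨k, x, hxs, hx⟩ := exists_common_level h1 h2 D s (fun f => hs f)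
  obtain ⟨z, hz, -⟩ := hev k x (fun f => hx f)
  have hmk : ∀ (i : I) (w : (limit D).obj i) (j : J),
      colimMap (limit.π D j) (colimit.ι (limit D) i w) = colimit.ι (D.obj j) i ((limit.π D j).app i w) :=
    fun i w j => ConcreteCategory.congr_hom (ι_colimMap (limit.π D j) i) w
  refine ⟨colimit.ι (limit D) k z, fun j => (hmk k z j).trans (by rw [hz]; exact hxs j), ?_⟩
  intro w hw
  obtain ⟨i, w', rfl⟩ := Types.jointly_surjective_of_isColimit (colimit.isColimit (limit D)) w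
  obtain ⟨k', a, b, hab⟩ := common_cospan h1 h2 D (fun j => (limit.π D j).app i w') x (fun j => by
    rw [hxs]
    exact (hmk i w' j).symm.trans (hw j))
  refine Types.colimit_sound' a b ((hev k' (fun j => (D.obj j).map b (x j)) fun {j j'} f => ?_).unique
    (fun j => ?_) (fun j => ?_))
  · change (D.map f).app k' ((D.obj j).map b (x j)) = (D.obj j').map b (x j')
    rw [NatTrans.naturality_apply, hx]
  · rw [NatTrans.naturality_apply, hab]
  · rw [NatTrans.naturality_apply, hz]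

end Groth.Agent.Lib.CatLim.Commute
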